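import Cfsg.Agent.H93.RC.Defs
import Cfsg.Agent.H198.TriCls

/-!
# S3510, triality of `PΩ₈⁺(q)`: the frame (helper566)

* `Rp Q N σ` : `σ : P Q →* G` is injective with image `N`;
* `La σ x α` : `x ∈ G` induces the automorphism `α` of `P Q`;
* `La.lf` : the connection with `Lf` (`H93.RC`);
* `Rp.change` : change of `σ` by an automorphism of `P Q`;
* `mv_rot`, `mv_rot'` : replacing `x i₁` of a cover by elements attached to `b b₁ b₂ = 1`, `b₁ = x b x⁻¹`, `b₂ = x b₁ x⁻¹`.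
-/

set_option autoImplicit false
open Cfsg

namespace Cfsg.Agent.H566.RC

open QuadraticMap MulAction
open Cfsg.Agent.LieClassical.OrthCore Cfsg.Agent.LieClassical.OrthTrans
open Cfsg.Agent.LieClassical.OrthSimple Cfsg.Agent.ClassicalGeometry.OrthSemi
open Cfsg.Agent.ClassicalGeometry.OrthAut1 Cfsg.Agent.H106.RC Cfsg.Agent.H93.RC

section basic

variable {F V : Type*} [Field F] [AddCommGroup V] [Module F V] {Q : QuadraticForm F V}
variable {G : Type*} [Group G]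

/-- `σ` is an embedding of `P Q` with image `N` -/
structure Rp (Q : QuadraticForm F V) (N : Subgroup G) (σ : P Q →* G) : Prop where
  inj : Function.Injective σ
  range : σ.range = N

/-- `x` induces the automorphism `α` of `P Q` -/
def La (σ : P Q →* G) (x : G) (α : MulAut (P Q)) : Prop := ∀ a : P Q, x * σ a * x⁻¹ = σ (α a)

/-- the homomorphism of `E Q` -/
def up (σ : P Q →* G) : ↥(E Q) →* G := σ.comp (QuotientGroup.mk' _)

theorem up_apply (σ : P Q →* G) (t : ↥(E Q)) : up σ t = σ (t : P Q) := rfl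

theorem Rp.rep {N : Subgroup G} {σ : P Q →* G} (h : Rp Q N σ) : Rep Q N (up σ) := by
  refine ⟨?_, ?_⟩
  · rw [up, MonoidHom.range_comp, MonoidHom.range_eq_top.2 (QuotientGroup.mk'_surjective _), ← MonoidHom.range_eq_map,
      h.range]
  · ext t
    rw [MonoidHom.mem_ker, up_apply, map_eq_one_iff σ h.inj, QuotientGroup.eq_one_iff]

theorem exists_rp {N : Subgroup G} {S : Type*} [Group S] (e : N ≃* S) (f : S ≃* P Q) :
    ∃ σ : P Q →* G, Rp Q N σ := by
  refine ⟨N.subtype.comp ((e.trans f).symm.toMonoidHom), ?_, ?_⟩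
  · exact N.subtype_injective.comp (e.trans f).symm.injective
  · rw [MonoidHom.range_comp, MonoidHom.range_eq_top.2 (e.trans f).symm.surjective, ← MonoidHom.range_eq_map,
      Subgroup.range_subtype]

section

variable {σ : P Q →* G} {x y : G} {α β : MulAut (P Q)}

theorem La.lf {M : Gam Q} : La σ x (Psi Q M) ↔ Lf (up σ) x M := by
  constructor
  · intro h t
    rw [up_apply, h, Psi_mk]
    rfl
  · intro h a
    obtain ⟨t, rfl⟩ := QuotientGroup.mk_surjective a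
    rw [Psi_mk]
    exact h t

theorem La.one : La σ 1 (1 : MulAut (P Q)) := fun a => by simp

theorem La.mul (h : La σ x α) (h' : La σ y β) : La σ (x * y) (α * β) := fun a => by
  rw [MulAut.mul_apply, ← h, ← h']; group

theorem La.inv (h : La σ x α) : La σ x⁻¹ α⁻¹ := fun a => by
  have h1 := h (α⁻¹ a)
  have h2 : α (α⁻¹ a) = a := by rw [← MulAut.mul_apply, mul_inv_cancel]; rfl
  rw [h2] at h1
  rw [← h1]
  group

theorem La.pow (h : La σ x α) (n : ℕ) : La σ (x ^ n) (α ^ n) := by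
  induction n with
  | zero => rw [pow_zero, pow_zero]; exact La.one
  | succ n ih => rw [pow_succ, pow_succ]; exact ih.mul h

theorem La.inner (a : P Q) : La σ (σ a) (MulAut.conj a) := fun b => by
  rw [MulAut.conj_apply, map_mul, map_mul, map_inv]

/-- the automorphism is unique -/
theorem La.unique {N : Subgroup G} (hσ : Rp Q N σ) (h : La σ x α) (h' : La σ x β) : α = β := by
  ext a
  exact hσ.inj ((h a).symm.trans (h' a))

/-- two elements inducing the same automorphism are equal -/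
theorem La.eq {N : Subgroup G} {Ω : Type*} [MulAction G Ω] (hE : Env G Ω N) (hσ : Rp Q N σ) (h : La σ x α)
    (h' : La σ y α) : x = y := by
  have h1 : x * y⁻¹ ∈ Subgroup.centralizer (N : Set G) := by
    rw [Subgroup.mem_centralizer_iff]
    intro n hn
    have hn' : n ∈ N := hn
    rw [← hσ.range] at hn'
    obtain ⟨a, rfl⟩ := hn'
    have h3 := (h.mul h'.inv) a
    rw [mul_inv_cancel] at h3
    have h4 : x * y⁻¹ * σ a * (x * y⁻¹)⁻¹ = σ a := h3
    rw [mul_inv_eq_iff_eq_mul] at h4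
    exact h4.symm
  rw [hE.cent] at h1
  exact mul_inv_eq_one.1 (Subgroup.mem_bot.1 h1)

/-- every element induces an automorphism -/
theorem exists_La {N : Subgroup G} (hN : N.Normal) (hσ : Rp Q N σ) (x : G) : ∃ α : MulAut (P Q), La σ x α := by
  have hmem : ∀ a, σ a ∈ N := fun a => by rw [← hσ.range]; exact ⟨a, rfl⟩
  have hs : ∀ n ∈ N, ∃ a, σ a = n := fun n hn => by
    rw [← hσ.range] at hn
    exact hn
  let e : P Q ≃* N := MulEquiv.ofBijective (σ.codRestrict N hmem)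
    ⟨fun a b h => hσ.inj (congrArg Subtype.val h), fun n => by
      obtain ⟨a, ha⟩ := hs n.1 n.2
      exact ⟨a, Subtype.ext ha⟩⟩
  refine ⟨e.trans ((MulAut.conjNormal x).trans e.symm), fun a => ?_⟩
  have h1 : e ((e.trans ((MulAut.conjNormal x).trans e.symm)) a) = MulAut.conjNormal x (e a) :=
    e.apply_symm_apply _
  have h2 := congrArg Subtype.val h1
  rw [MulAut.conjNormal_apply] at h2
  exact h2.symm

/-- change of `σ` by an automorphism -/
theorem Rp.change {N : Subgroup G} (hσ : Rp Q N σ) (γ : MulAut (P Q)) :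
    ∃ σ' : P Q →* G, Rp Q N σ' ∧ ∀ x α, La σ x α → La σ' x (γ * α * γ⁻¹) := by
  refine ⟨σ.comp (γ⁻¹ : MulAut (P Q)).toMonoidHom, ⟨hσ.inj.comp (γ⁻¹ : MulAut (P Q)).injective, ?_⟩, ?_⟩
  · rw [MonoidHom.range_comp, MonoidHom.range_eq_top.2 (γ⁻¹ : MulAut (P Q)).surjective, ← MonoidHom.range_eq_map,
      hσ.range]
  · intro x α h a
    change x * σ (γ⁻¹ a) * x⁻¹ = σ (γ⁻¹ ((γ * α * γ⁻¹) a))
    rw [h]
    congr 1
    have : γ⁻¹ ((γ * α * γ⁻¹) a) = (γ⁻¹ * (γ * α * γ⁻¹)) a := rfl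
    rw [this]
    have h2 : γ⁻¹ * (γ * α * γ⁻¹) = α * γ⁻¹ := by group
    rw [h2]
    rfl

/-- conjugation of a semisimilitude by an automorphism -/
theorem La.conj_lf {M M' : Gam Q} (hx : La σ x α) (hy : Lf (up σ) y M)
    (h : α * Psi Q M * α⁻¹ = Psi Q M') : Lf (up σ) (x * y * x⁻¹) M' := by
  rw [← La.lf, ← h]
  exact (hx.mul (La.lf.2 hy)).mul hx.inv

end

end basic

section mv

variable {G Ω ι : Type*} [Group G] [MulAction G Ω] [DecidableEq ι] {x : ι → G} {i : ι} {b b₁ : G}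

omit [DecidableEq ι] in
theorem mem_cl (hb : ∀ j, j ≠ i → b * x j = x j * b) :
    b * x i * b⁻¹ * (x i)⁻¹ ∈ Subgroup.closure {z | ∃ c : G, (∀ j, j ≠ i → c * x j = x j * c) ∧ z = c * x i * c⁻¹} := by
  apply Subgroup.mul_mem
  · exact Subgroup.subset_closure ⟨b, hb, rfl⟩
  · apply Subgroup.inv_mem
    exact Subgroup.subset_closure ⟨1, by simp, by simp⟩

/-- the element `b⁻¹ (x b x⁻¹)` -/
theorem mv_one (h : Cov Ω x) (hb : ∀ j, j ≠ i → b * x j = x j * b) (h1 : b₁ = x i * b * (x i)⁻¹) :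
    Cov Ω (Function.update x i (b⁻¹ * b₁)) := by
  have h2 : b⁻¹ * b₁ = b⁻¹ * x i * (b⁻¹)⁻¹ * (x i)⁻¹ := by rw [h1]; group
  rw [h2]
  apply h.mv
  apply mem_cl
  intro j hj
  have := hb j hj
  rw [inv_mul_eq_iff_eq_mul, ← mul_assoc, this, mul_inv_cancel_right]

/-- the cube of `b`, if `b b₁ b₂ = 1` -/
theorem mv_cube (h : Cov Ω x) (hb : ∀ j, j ≠ i → b * x j = x j * b) (hx : ∀ j, x i * x j = x j * x i)
    (h1 : b₁ = x i * b * (x i)⁻¹) (hc : b * b₁ = b₁ * b) (h3 : b * b₁ * (x i * b₁ * (x i)⁻¹) = 1) :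
    Cov Ω (Function.update x i (b ^ 3)) := by
  have hinv : ∀ c : G, (∀ j, j ≠ i → c * x j = x j * c) → ∀ j, j ≠ i → c⁻¹ * x j = x j * c⁻¹ := by
    intro c hc j hj
    rw [inv_mul_eq_iff_eq_mul, ← mul_assoc, hc j hj, mul_inv_cancel_right]
  have hb1 : ∀ j, j ≠ i → b₁ * x j = x j * b₁ := by
    intro j hj
    have e1 := hx j
    have e2 : (x i)⁻¹ * x j = x j * (x i)⁻¹ := by rw [inv_mul_eq_iff_eq_mul, ← mul_assoc, e1, mul_inv_cancel_right]
    calc b₁ * x j = x i * b * ((x i)⁻¹ * x j) := by rw [h1]; group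
      _ = x i * (b * x j) * (x i)⁻¹ := by rw [e2]; group
      _ = (x i * x j) * b * (x i)⁻¹ := by rw [hb j hj]; group
      _ = x j * (x i * b * (x i)⁻¹) := by rw [e1]; group
      _ = x j * b₁ := by rw [h1]
  apply h.mv
  have m1 := Subgroup.inv_mem _ (mem_cl (hinv b hb))
  have m2 := Subgroup.inv_mem _ (mem_cl (hinv b₁ hb1))
  set b₂ := x i * b₁ * (x i)⁻¹ with hb2
  have e1 : (b⁻¹ * x i * b⁻¹⁻¹ * (x i)⁻¹)⁻¹ = b₁⁻¹ * b := by rw [h1]; group
  have e2 : (b₁⁻¹ * x i * b₁⁻¹⁻¹ * (x i)⁻¹)⁻¹ = b₂⁻¹ * b₁ := by rw [hb2]; group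
  rw [e1] at m1
  rw [e2] at m2
  have e3 : b₂ = b₁⁻¹ * b⁻¹ := by
    rw [← mul_inv_rev]
    exact eq_inv_of_mul_eq_one_right h3
  have e4 : b ^ 3 = (b₂⁻¹ * b₁) * (b₁⁻¹ * b) * (b₁⁻¹ * b) := by
    rw [e3]
    have hc' : Commute b b₁ := hc
    have h5 : b * b₁⁻¹ = b₁⁻¹ * b := (hc'.inv_right).eq
    calc b ^ 3 = b * b * b := by rw [pow_three, mul_assoc]
      _ = b * b₁ * (b₁⁻¹ * b) * b := by group
      _ = b * b₁ * (b * b₁⁻¹) * b := by rw [h5]
      _ = _ := by group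
  rw [e4]
  exact Subgroup.mul_mem _ (Subgroup.mul_mem _ m2 m1) m1

end mv

end Cfsg.Agent.H566.RC
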