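import Mathlib

/-!
# Equivariant generalised inverses and adjoints (helper566)

* `exists_ginv_comm` : `A S A = A` with `S` commuting with commuting `g i` of orders prime to the characteristic;
* `exists_adj`, `adj_comm` : adjoints with respect to the polar form.
-/

set_option autoImplicit false
set_option linter.unusedSectionVars false

namespace Cfsg.Agent.H566.RC.Torus

open Module QuadraticMap

variable {F V : Type*} [Field F] [AddCommGroup V] [Module F V]

/-! ### Averaging -/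

section avg

/-- a generalised inverse -/
theorem exists_ginv (A : V →ₗ[F] V) : ∃ S : V →ₗ[F] V, ∀ v, A (S (A v)) = A v := by
  obtain ⟨L, hL⟩ := LinearMap.exists_rightInverse_of_surjective A.rangeRestrict A.range_rangeRestrict
  obtain ⟨S, hS⟩ := LinearMap.exists_extend L
  refine ⟨S, fun v => ?_⟩
  have h1 : S (A v) = L (A.rangeRestrict v) := LinearMap.congr_fun hS (A.rangeRestrict v)
  have h2 : A.rangeRestrict (L (A.rangeRestrict v)) = A.rangeRestrict v := LinearMap.congr_fun hL _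
  rw [h1]
  exact congrArg Subtype.val h2

variable {ι : Type*} [Finite ι] {g : ι → (V ≃ₗ[F] V)} {r : ι → ℕ}

/-- the average of `S` over the powers of `g` -/
noncomputable def av (g : V ≃ₗ[F] V) (r : ℕ) (S : V →ₗ[F] V) : V →ₗ[F] V :=
  (r : F)⁻¹ • ∑ k ∈ Finset.range r, ((g ^ k : V ≃ₗ[F] V) : V →ₗ[F] V) ∘ₗ S ∘ₗ (((g ^ k)⁻¹ : V ≃ₗ[F] V) : V →ₗ[F] V)

theorem av_apply (g : V ≃ₗ[F] V) (r : ℕ) (S : V →ₗ[F] V) (v : V) :
    av g r S v = (r : F)⁻¹ • ∑ k ∈ Finset.range r, (g ^ k) (S ((g ^ k)⁻¹ v)) := by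
  rw [av, LinearMap.smul_apply, LinearMap.sum_apply]
  rfl

theorem av_comm (g : V ≃ₗ[F] V) {r : ℕ} (hg : g ^ r = 1) (S : V →ₗ[F] V) (v : V) :
    av g r S (g v) = g (av g r S v) := by
  rw [av_apply, av_apply, map_smul, map_sum]
  congr 1
  have e1 : ∀ k, g ((g ^ k) (S ((g ^ k)⁻¹ v))) = (g ^ (k + 1)) (S ((g ^ (k + 1))⁻¹ (g v))) := by
    intro k
    have e2 : (g ^ (k + 1))⁻¹ (g v) = (g ^ k)⁻¹ v := by
      have : (g ^ (k + 1))⁻¹ * g = (g ^ k)⁻¹ := by rw [pow_succ', mul_inv_rev, inv_mul_cancel_right]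
      exact LinearEquiv.congr_fun this v
    rw [e2, pow_succ']
    rfl
  rw [Finset.sum_congr rfl fun k _ => e1 k]
  have e3 := Finset.sum_range_succ' (fun k => (g ^ k) (S ((g ^ k)⁻¹ (g v)))) r
  have e4 := Finset.sum_range_succ (fun k => (g ^ k) (S ((g ^ k)⁻¹ (g v)))) r
  rw [e4, hg, pow_zero] at e3
  exact add_right_cancel e3

theorem pow_comm {g : V ≃ₗ[F] V} {f : V →ₗ[F] V} (h : ∀ v, f (g v) = g (f v)) (k : ℕ) (v : V) :
    f ((g ^ k) v) = (g ^ k) (f v) := by
  induction k generalizing v with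
  | zero => rfl
  | succ k ih =>
    have e : ∀ w, (g ^ (k + 1)) w = (g ^ k) (g w) := fun w => by rw [pow_succ]; rfl
    rw [e, ih, h, e]

theorem inv_comm {g : V ≃ₗ[F] V} {f : V →ₗ[F] V} (h : ∀ v, f (g v) = g (f v)) (v : V) :
    f (g⁻¹ v) = g⁻¹ (f v) := by
  have e : ∀ w, g (g⁻¹ w) = w := fun w => g.apply_symm_apply w
  apply g.injective
  rw [e, ← h, e]

theorem powinv_comm {g : V ≃ₗ[F] V} {f : V →ₗ[F] V} (h : ∀ v, f (g v) = g (f v)) (k : ℕ) (v : V) :
    f ((g ^ k)⁻¹ v) = (g ^ k)⁻¹ (f v) := inv_comm (fun v => pow_comm h k v) v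

/-- averaging keeps the equation `A S A = A` -/
theorem av_ginv {g : V ≃ₗ[F] V} {r : ℕ} (hr : (r : F) ≠ 0) {A S : V →ₗ[F] V} (hA : ∀ v, A (g v) = g (A v))
    (hS : ∀ v, A (S (A v)) = A v) (v : V) : A (av g r S (A v)) = A v := by
  rw [av_apply, map_smul, map_sum]
  have e1 : ∀ k ∈ Finset.range r, A ((g ^ k) (S ((g ^ k)⁻¹ (A v)))) = A v := by
    intro k _
    rw [pow_comm hA, ← powinv_comm hA, hS, powinv_comm hA]
    exact (g ^ k).apply_symm_apply _
  rw [Finset.sum_congr rfl e1, Finset.sum_const, Finset.card_range, ← Nat.cast_smul_eq_nsmul F, smul_smul,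
    inv_mul_cancel₀ hr, one_smul]

/-- averaging keeps commutation with elements commuting with `g` -/
theorem av_keep {g g' : V ≃ₗ[F] V} {r : ℕ} {S : V →ₗ[F] V} (hgg : g * g' = g' * g) (hS : ∀ v, S (g' v) = g' (S v))
    (v : V) : av g r S (g' v) = g' (av g r S v) := by
  rw [av_apply, av_apply, map_smul, map_sum]
  congr 1
  refine Finset.sum_congr rfl fun k _ => ?_
  have h1 : Commute (g ^ k) g' := (show Commute g g' from hgg).pow_left k
  have e1 : (g ^ k)⁻¹ (g' v) = g' ((g ^ k)⁻¹ v) := LinearEquiv.congr_fun (h1.inv_left.eq) v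
  have e2 : ∀ w, (g ^ k) (g' w) = g' ((g ^ k) w) := fun w => LinearEquiv.congr_fun h1.eq w
  rw [e1, hS, e2]

theorem exists_ginv_comm (hr : ∀ i, (r i : F) ≠ 0) (hpow : ∀ i, g i ^ r i = 1) (hc : ∀ i j, g i * g j = g j * g i)
    (A : V →ₗ[F] V) (hA : ∀ i v, A (g i v) = g i (A v)) :
    ∃ S : V →ₗ[F] V, (∀ v, A (S (A v)) = A v) ∧ ∀ i v, S (g i v) = g i (S v) := by
  classical
  have := Fintype.ofFinite ι
  have key : ∀ s : Finset ι, ∃ S : V →ₗ[F] V, (∀ v, A (S (A v)) = A v) ∧ ∀ i ∈ s, ∀ v, S (g i v) = g i (S v) := by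
    intro s
    induction s using Finset.induction_on with
    | empty =>
      obtain ⟨S, hS⟩ := exists_ginv A
      exact ⟨S, hS, by simp⟩
    | insert j s hj ih =>
      obtain ⟨S, h1, h2⟩ := ih
      refine ⟨av (g j) (r j) S, av_ginv (hr j) (hA j) h1, fun i hi => ?_⟩
      rcases Finset.mem_insert.1 hi with rfl | hi
      · exact av_comm _ (hpow i) S
      · exact av_keep (hc j i) (h2 i hi)
  obtain ⟨S, h1, h2⟩ := key Finset.univ
  exact ⟨S, h1, fun i => h2 i (Finset.mem_univ i)⟩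

end avg

/-! ### Adjoints -/

section adj

variable [FiniteDimensional F V] {Q : QuadraticForm F V}

/-- the adjoint -/
theorem exists_adj (hQ : ∀ v, (∀ w, polar Q v w = 0) → v = 0) (f : V →ₗ[F] V) :
    ∃ f' : V →ₗ[F] V, ∀ v w, polar Q (f v) w = polar Q v (f' w) := by
  let B : V →ₗ[F] Module.Dual F V := polarBilin Q
  have hB : Function.Injective B := by
    rw [injective_iff_map_eq_zero]
    intro w hw
    exact hQ w fun y => LinearMap.congr_fun hw y
  let b : V ≃ₗ[F] Module.Dual F V := LinearMap.linearEquivOfInjective B hB Subspace.dual_finrank_eq.symm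
  have hb : ∀ w y, b w y = polar Q w y := fun w y => rfl
  refine ⟨b.symm.toLinearMap ∘ₗ f.dualMap ∘ₗ B, fun v w => ?_⟩
  have h1 : b (b.symm (f.dualMap (B w))) v = polar Q w (f v) := by
    rw [LinearEquiv.apply_symm_apply]
    rfl
  rw [hb] at h1
  rw [polar_comm Q v]
  change _ = polar Q (b.symm (f.dualMap (B w))) v
  rw [h1, polar_comm]

theorem adj_comm (hQ : ∀ v, (∀ w, polar Q v w = 0) → v = 0) {f f' : V →ₗ[F] V}
    (h : ∀ v w, polar Q (f v) w = polar Q v (f' w)) {g : V ≃ₗ[F] V} (hg : ∀ v w, polar Q (g v) (g w) = polar Q v w)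
    (hfg : ∀ v, f (g v) = g (f v)) (v : V) : f' (g v) = g (f' v) := by
  rw [← sub_eq_zero]
  apply hQ
  intro w
  obtain ⟨w, rfl⟩ := g.surjective w
  rw [polar_sub_left, polar_comm Q (f' (g v)), ← h, hfg, hg, hg, polar_comm Q (f' v), ← h, sub_self]

end adj

end Cfsg.Agent.H566.RC.Torus
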