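import Cfsg.Agent.H198.TriCls

/-!
# S3510, triality: the symmetric composition `dia τ`, `τ` a linear octonion automorphism, `τ³ = 1` (helper566)

`(u ⋄ w) ⋄ u = Q(u) w = u ⋄ (w ⋄ u)`, `Q(u ⋄ w) = Q(u) Q(w)`, `(u ⋄ w, z) = (u, w ⋄ z)` and the linearised identities.
-/

set_option autoImplicit false
set_option linter.unusedSectionVars false

namespace Cfsg.Agent.H566.RC

open Module QuadraticMap Cfsg.Agent.LieClassical.OrthCore Cfsg.Agent.LieClassical.OrthTrans
  Cfsg.Agent.LieClassical.OrthSimple Cfsg.Agent.ClassicalGeometry.OrthAut1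
  Cfsg.Agent.ClassicalGeometry.OrthSemi Cfsg.Agent.H198.Classes
  Cfsg.Agent.LieClassical.QuadForms Cfsg.Agent.H198.ClassesPlus
  Cfsg.Agent.ClassicalGeometry.TrialityOct Cfsg.Agent.ClassicalGeometry.Triality
  Cfsg.Agent.ClassicalGeometry.TrialitySpaces Cfsg.Agent.H198.TriBase Cfsg.Agent.H198.TriAut
  Cfsg.Agent.H198.TriDia Cfsg.Agent.H198.TriTC

universe u

variable {F : Type u} [Field F]

/-- a linear octonion automorphism with `τ³ = 1` -/
structure Au (τ : G8 F) : Prop where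
  tri : TriS τ τ τ
  lin : IsLin τ
  cube : τ ^ 3 = 1

section

variable {τ : G8 F} (h : Au τ)

include h

theorem Au.add (x y : V8 F) : τ.1 (x + y) = τ.1 x + τ.1 y := by
  obtain ⟨c, hc⟩ := h.lin
  exact hc.add x y

theorem Au.smul (a : F) (x : V8 F) : τ.1 (a • x) = a • τ.1 x := by
  obtain ⟨c, hc⟩ := h.lin
  exact hc.smul a x

theorem Au.norm (x : V8 F) : plusForm 4 F (τ.1 x) = plusForm 4 F x := by
  obtain ⟨c, hc⟩ := h.lin
  have h1 := aut_mult h.tri hc
  rw [hc.form, h1, one_mul]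
  rfl

theorem Au.polar_map (x y : V8 F) : polar (plusForm 4 F) (τ.1 x) (τ.1 y) = polar (plusForm 4 F) x y := by
  simp only [QuadraticMap.polar]
  rw [← h.add, h.norm, h.norm, h.norm]

theorem Au.t3 (x : V8 F) : τ.1 (τ.1 (τ.1 x)) = x := by
  have h1 := congrArg (fun z : G8 F => z.1 x) h.cube
  rw [pow_three] at h1
  exact h1

theorem Au.inv_eq (x : V8 F) : τ⁻¹.1 x = τ.1 (τ.1 x) := by
  have h1 : τ⁻¹.1 (τ.1 (τ.1 (τ.1 x))) = τ.1 (τ.1 x) := τ.1.symm_apply_apply _
  rwa [h.t3] at h1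

theorem Au.mul (x y : V8 F) : τ.1 (omul x y) = omul (τ.1 x) (τ.1 y) := h.tri x y

theorem Au.conj (x : V8 F) : τ.1 (oconj x) = oconj (τ.1 x) := aut_oconj h.tri x

theorem Au.dia_eq (u w : V8 F) : dia τ u w = omul (oconj (τ.1 (τ.1 u))) (oconj (τ.1 w)) := by
  rw [dia, h.inv_eq, h.conj, h.conj, h.conj]

theorem Au.dia_add_left (u u' w : V8 F) : dia τ (u + u') w = dia τ u w + dia τ u' w := by
  rw [h.dia_eq, h.dia_eq, h.dia_eq, h.add, h.add, oconj_add, add_omul]

theorem Au.dia_add_right (u w w' : V8 F) : dia τ u (w + w') = dia τ u w + dia τ u w' := by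
  rw [h.dia_eq, h.dia_eq, h.dia_eq, h.add, oconj_add, omul_add]

theorem Au.dia_smul_left (c : F) (u w : V8 F) : dia τ (c • u) w = c • dia τ u w := by
  rw [h.dia_eq, h.dia_eq, h.smul, h.smul, oconj_smul, smul_omul]

theorem Au.dia_smul_right (c : F) (u w : V8 F) : dia τ u (c • w) = c • dia τ u w := by
  rw [h.dia_eq, h.dia_eq, h.smul, oconj_smul, omul_smul]

theorem Au.dia_norm (u w : V8 F) :
    plusForm 4 F (dia τ u w) = plusForm 4 F u * plusForm 4 F w := by
  rw [h.dia_eq, norm_omul, norm_oconj, norm_oconj, h.norm, h.norm, h.norm]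

/-- `(u ⋄ w) ⋄ u = Q(u) w` -/
theorem Au.dia_dia (u w : V8 F) : dia τ (dia τ u w) u = plusForm 4 F u • w := by
  have e1 : oconj (τ.1 (τ.1 (dia τ u w))) = omul w (τ.1 u) := by
    rw [h.dia_eq, h.mul, h.mul, h.conj, h.conj, h.t3, h.conj, h.conj, h.t3, oconj_omul, oconj_oconj, oconj_oconj]
  rw [h.dia_eq (dia τ u w) u, e1, omul_omul_oconj, h.norm]

/-- `u ⋄ (w ⋄ u) = Q(u) w` -/
theorem Au.dia_dia' (u w : V8 F) : dia τ u (dia τ w u) = plusForm 4 F u • w := by
  have e1 : oconj (τ.1 (dia τ w u)) = omul (τ.1 (τ.1 u)) w := by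
    rw [h.dia_eq, h.mul, h.conj, h.conj, h.t3, oconj_omul, oconj_oconj, oconj_oconj]
  rw [h.dia_eq u (dia τ w u), e1, oconj_omul_omul, h.norm, h.norm]

/-- linearised identities -/
theorem Au.lin1 (u w z : V8 F) : dia τ (dia τ u w) z + dia τ (dia τ z w) u =
    polar (plusForm 4 F) u z • w := by
  have h1 := h.dia_dia (u + z) w
  rw [h.dia_add_left, h.dia_add_left, h.dia_add_right, h.dia_add_right, h.dia_dia, h.dia_dia] at h1
  have h2 : plusForm 4 F (u + z) = plusForm 4 F u + plusForm 4 F z + polar (plusForm 4 F) u z := by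
    rw [QuadraticMap.polar]; ring
  rw [h2, add_smul, add_smul] at h1
  have h3 : dia τ (dia τ u w) z + dia τ (dia τ z w) u =
      (plusForm 4 F u • w + dia τ (dia τ u w) z + (dia τ (dia τ z w) u + plusForm 4 F z • w)) -
        (plusForm 4 F u • w + plusForm 4 F z • w) := by abel
  rw [h3, h1]
  abel

theorem Au.lin2 (u w z : V8 F) : dia τ u (dia τ w z) + dia τ z (dia τ w u) =
    polar (plusForm 4 F) u z • w := by
  have h1 := h.dia_dia' (u + z) w
  rw [h.dia_add_right, h.dia_add_left, h.dia_add_right, h.dia_add_right, h.dia_dia', h.dia_dia'] at h1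
  have h2 : plusForm 4 F (u + z) = plusForm 4 F u + plusForm 4 F z + polar (plusForm 4 F) u z := by
    rw [QuadraticMap.polar]; ring
  rw [h2, add_smul, add_smul] at h1
  have h3 : dia τ u (dia τ w z) + dia τ z (dia τ w u) =
      (plusForm 4 F u • w + dia τ u (dia τ w z) + (dia τ z (dia τ w u) + plusForm 4 F z • w)) -
        (plusForm 4 F u • w + plusForm 4 F z • w) := by abel
  rw [h3, h1]
  abel

/-- associativity of the polar form -/
theorem Au.assoc (u w z : V8 F) :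
    polar (plusForm 4 F) (dia τ u w) z = polar (plusForm 4 F) u (dia τ w z) := by
  have e1 : τ.1 (τ.1 (dia τ w z)) = omul (oconj (τ.1 w)) (oconj z) := by
    rw [h.dia_eq, h.mul, h.mul, h.conj, h.conj, h.t3, h.conj, h.conj, h.t3]
  rw [← h.polar_map u, ← h.polar_map (τ.1 u), e1, h.dia_eq, polar_omul, oconj_oconj]
  have e2 : ∀ x y : V8 F, polar (plusForm 4 F) (oconj x) (oconj y) = polar (plusForm 4 F) x y := by
    intro x y
    simp only [QuadraticMap.polar]
    rw [← oconj_add, norm_oconj, norm_oconj, norm_oconj]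
  rw [← e2, oconj_oconj, oconj_omul]

end

end Cfsg.Agent.H566.RC
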