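import Cfsg.Agent.H864.RC.DefG

/-!
# S3510, type iii, box G: (P1), the components of two commuting semisimple isometries (helper566)
-/

set_option autoImplicit false
open Cfsg

namespace Cfsg.Agent.H566.RC

open Module QuadraticMap
open Cfsg.Agent.LieClassical.OrthCore Cfsg.Agent.LieClassical.OrthTrans
open Cfsg.Agent.LieClassical.OrthSimple Cfsg.Agent.ClassicalGeometry.OrthSemi
open Cfsg.Agent.ClassicalGeometry.OrthAut1 Cfsg.Agent.H106.RC Cfsg.Agent.H93.RC
open Cfsg.Agent.LieClassical.QuadForms Cfsg.Agent.ClassicalGeometry.TrialityOct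
open Cfsg.Agent.ClassicalGeometry.Triality Cfsg.Agent.ClassicalGeometry.TrialitySpaces
open Cfsg.Agent.H198.TriBase Cfsg.Agent.H198.TriAut Cfsg.Agent.H206.Balance Cfsg.Agent.H198.TriDia
open Cfsg.Agent.H198.TwComp Cfsg.Agent.H198 Cfsg.Agent.H864.RC

section gen
variable {F : Type*} [Field F] {V : Type*} [AddCommGroup V] [Module F V]

/-- the projection to the eigenspace of `t`, for `T ^ q = T` -/
noncomputable def ePr (T : Module.End F V) (t : F) : Module.End F V :=
  1 - (T - algebraMap F (Module.End F V) t) ^ (Nat.card F - 1)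

theorem sum_pow_card_sub_one [Fintype F] :
    ∑ t : F, (Polynomial.X - Polynomial.C t) ^ (Nat.card F - 1) = (-1 : Polynomial F) := by
  classical
  have hq : 1 < Nat.card F := Finite.one_lt_card
  refine Polynomial.eq_of_degree_sub_lt_of_eval_finset_eq Finset.univ ?_ ?_
  · refine lt_of_le_of_lt (Polynomial.degree_sub_le _ _) ?_
    refine max_lt ?_ ?_
    · refine lt_of_le_of_lt (Polynomial.degree_sum_le _ _) ?_
      rw [Finset.sup_lt_iff]
      · intro t _
        rw [Polynomial.degree_pow, Polynomial.degree_X_sub_C]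
        rw [nsmul_eq_mul, mul_one]
        rw [Finset.card_univ, ← Nat.card_eq_fintype_card]
        exact_mod_cast (by omega : Nat.card F - 1 < Nat.card F)
      · exact WithBot.bot_lt_coe _
    · rw [Polynomial.degree_neg, Polynomial.degree_one]
      rw [Finset.card_univ, ← Nat.card_eq_fintype_card]
      exact_mod_cast (by omega : 0 < Nat.card F)
  · intro x _
    rw [Polynomial.eval_finsetSum]
    have h1 : ∀ t ∈ (Finset.univ : Finset F), Polynomial.eval x ((Polynomial.X - Polynomial.C t) ^ (Nat.card F - 1)) =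
        1 - (if t = x then 1 else 0) := by
      intro t _
      rw [Polynomial.eval_pow, Polynomial.eval_sub, Polynomial.eval_X, Polynomial.eval_C]
      by_cases h : t = x
      · rw [if_pos h, h, sub_self, zero_pow (by omega), sub_self]
      · rw [if_neg h, sub_zero, Nat.card_eq_fintype_card, FiniteField.pow_card_sub_one_eq_one _ (sub_ne_zero.2 (Ne.symm h))]
    rw [Finset.sum_congr rfl h1, Finset.sum_sub_distrib, Finset.sum_const, Finset.card_univ, nsmul_eq_mul, mul_one,
      Finset.sum_ite_eq' Finset.univ x, if_pos (Finset.mem_univ _), FiniteField.cast_card_eq_zero]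
    simp

theorem sum_ePr [Fintype F] (T : Module.End F V) : ∑ t : F, ePr T t = 1 := by
  have h := congrArg (Polynomial.aeval T) (sum_pow_card_sub_one (F := F))
  rw [map_sum] at h
  simp only [map_pow, map_sub, Polynomial.aeval_X, Polynomial.aeval_C, map_neg, map_one] at h
  unfold ePr
  rw [Finset.sum_sub_distrib, h, Finset.sum_const, Finset.card_univ, nsmul_eq_mul, mul_one]
  have h2 : ((Fintype.card F : ℕ) : Module.End F V) = 0 := by
    have h3 : ((Fintype.card F : ℕ) : Module.End F V) = algebraMap F (Module.End F V) ((Fintype.card F : ℕ) : F) := by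
      rw [map_natCast]
    rw [h3, FiniteField.cast_card_eq_zero, map_zero]
  rw [h2]; simp

theorem pow_card_sub [Finite F] {p : ℕ} [Fact p.Prime] [CharP F p] [Nontrivial V] (A B : Module.End F V) (h : Commute A B) :
    (A - B) ^ Nat.card F = A ^ Nat.card F - B ^ Nat.card F := by
  have := Fintype.ofFinite F
  have : CharP (Module.End F V) p := charP_of_injective_algebraMap (FaithfulSMul.algebraMap_injective F _) p
  obtain ⟨n, _, hn⟩ := FiniteField.card F p
  rw [Nat.card_eq_fintype_card, hn]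
  exact sub_pow_char_pow_of_commute p n h

theorem pow_card_add [Finite F] {p : ℕ} [Fact p.Prime] [CharP F p] [Nontrivial V] (A B : Module.End F V) (h : Commute A B) :
    (A + B) ^ Nat.card F = A ^ Nat.card F + B ^ Nat.card F := by
  have := Fintype.ofFinite F
  have : CharP (Module.End F V) p := charP_of_injective_algebraMap (FaithfulSMul.algebraMap_injective F _) p
  obtain ⟨n, _, hn⟩ := FiniteField.card F p
  rw [Nat.card_eq_fintype_card, hn]
  exact add_pow_char_pow_of_commute p n h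

theorem sub_mul_ePr [Finite F] {p : ℕ} [Fact p.Prime] [CharP F p] [Nontrivial V] {T : Module.End F V}
    (hT : T ^ Nat.card F = T) (t : F) : (T - algebraMap F (Module.End F V) t) * ePr T t = 0 := by
  have := Fintype.ofFinite F
  have hq : 1 < Nat.card F := Finite.one_lt_card
  unfold ePr
  rw [mul_sub, mul_one, ← pow_succ', Nat.sub_add_cancel hq.le,
    pow_card_sub (p := p) T _ (Algebra.commutes t T).symm, hT, ← map_pow, Nat.card_eq_fintype_card,
    FiniteField.pow_card, sub_self]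

theorem ePr_mem [Finite F] {p : ℕ} [Fact p.Prime] [CharP F p] [Nontrivial V] {T : Module.End F V}
    (hT : T ^ Nat.card F = T) (t : F) (v : V) : ePr T t v ∈ Module.End.eigenspace T t := by
  have h := LinearMap.congr_fun (sub_mul_ePr (p := p) hT t) v
  rw [Module.End.mul_apply, LinearMap.sub_apply, Module.algebraMap_end_apply, LinearMap.zero_apply, sub_eq_zero] at h
  exact Module.End.mem_eigenspace_iff.2 h

theorem sub_pow_apply {T : Module.End F V} {t u : F} {v : V} (hv : v ∈ Module.End.eigenspace T u) (n : ℕ) :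
    ((T - algebraMap F (Module.End F V) t) ^ n) v = (u - t) ^ n • v := by
  induction n with
  | zero => simp
  | succ n ih =>
    rw [pow_succ, Module.End.mul_apply, LinearMap.sub_apply, Module.algebraMap_end_apply,
      Module.End.mem_eigenspace_iff.1 hv, ← sub_smul, map_smul, ih, smul_smul, pow_succ, mul_comm]

theorem ePr_self [Finite F] {T : Module.End F V} {t : F} {v : V} (hv : v ∈ Module.End.eigenspace T t) :
    ePr T t v = v := by
  have hq : 1 < Nat.card F := Finite.one_lt_card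
  unfold ePr
  rw [LinearMap.sub_apply, sub_pow_apply hv, sub_self, zero_pow (by omega), zero_smul, Module.End.one_apply, sub_zero]

theorem ePr_other [Finite F] {T : Module.End F V} {t u : F} (htu : t ≠ u) {v : V}
    (hv : v ∈ Module.End.eigenspace T u) : ePr T t v = 0 := by
  have := Fintype.ofFinite F
  unfold ePr
  rw [LinearMap.sub_apply, sub_pow_apply hv, Nat.card_eq_fintype_card,
    FiniteField.pow_card_sub_one_eq_one _ (sub_ne_zero.2 (Ne.symm htu)), one_smul, Module.End.one_apply, sub_self]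

theorem ePr_comm {T U : Module.End F V} (h : Commute T U) (t u : F) : Commute (ePr T t) (ePr U u) := by
  unfold ePr
  have h1 : Commute (T - algebraMap F (Module.End F V) t) (U - algebraMap F (Module.End F V) u) := by
    refine Commute.sub_left (Commute.sub_right h ?_) (Commute.sub_right ?_ ?_)
    · exact (Algebra.commutes u T).symm
    · exact Algebra.commutes t U
    · exact Algebra.commutes t _
  exact Commute.sub_left (Commute.sub_right (Commute.one_left _) (Commute.one_left _))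
    (Commute.sub_right (Commute.one_right _) (h1.pow_pow _ _))

theorem ePr_keep {T U : Module.End F V} (h : Commute T U) (t u : F) {v : V} (hv : v ∈ Module.End.eigenspace T t) :
    ePr U u v ∈ Module.End.eigenspace T t := by
  have h1 : Commute T (ePr U u) := by
    unfold ePr
    refine Commute.sub_right (Commute.one_right _) ((Commute.sub_right h ?_).pow_right _)
    exact (Algebra.commutes u T).symm
  have h2 := LinearMap.congr_fun h1.eq v
  rw [Module.End.mul_apply, Module.End.mul_apply, Module.End.mem_eigenspace_iff.1 hv, map_smul] at h2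
  exact Module.End.mem_eigenspace_iff.2 h2

/-- joint eigenspaces of two commuting maps with `T ^ q = T` -/
theorem pair_internal [Finite F] [DecidableEq (F × F)] {p : ℕ} [Fact p.Prime] [CharP F p] [Nontrivial V]
    {T U : Module.End F V} (hT : T ^ Nat.card F = T) (hU : U ^ Nat.card F = U) (h : Commute T U) :
    DirectSum.IsInternal (fun t : F × F => Module.End.eigenspace T t.1 ⊓ Module.End.eigenspace U t.2) := by
  classical
  have := Fintype.ofFinite F
  have hconv : ∀ (i1 i2 : DecidableEq (F × F)), i1 = i2 := fun _ _ => Subsingleton.elim _ _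
  refine DirectSum.isInternal_submodule_of_iSupIndep_of_iSup_eq_top ?_ ?_
  · intro t
    rw [Submodule.disjoint_def]
    intro x hx hx2
    have hle : (⨆ (j : F × F) (_ : j ≠ t), Module.End.eigenspace T j.1 ⊓ Module.End.eigenspace U j.2) ≤
        LinearMap.ker (ePr T t.1 * ePr U t.2) := by
      refine iSup₂_le ?_
      intro j hj y hy
      rw [LinearMap.mem_ker]
      by_cases h1 : t.1 = j.1
      · have h2 : t.2 ≠ j.2 := fun h2 => hj (Prod.ext h1.symm h2.symm)
        rw [Module.End.mul_apply, ePr_other h2 hy.2, map_zero]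
      · rw [(ePr_comm h t.1 t.2).eq, Module.End.mul_apply, ePr_other h1 hy.1, map_zero]
    have h3 := LinearMap.mem_ker.1 (hle hx2)
    rw [Module.End.mul_apply, ePr_self hx.2, ePr_self hx.1] at h3
    exact h3
  · rw [eq_top_iff]
    intro v _
    have h1 : v = ∑ t : F, ∑ u : F, ePr T t (ePr U u v) := by
      have h2 : ∀ t ∈ (Finset.univ : Finset F), ∑ u : F, ePr T t (ePr U u v) = ePr T t v := by
        intro t _
        rw [← map_sum, ← LinearMap.sum_apply, sum_ePr, Module.End.one_apply]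
      rw [Finset.sum_congr rfl h2, ← LinearMap.sum_apply, sum_ePr, Module.End.one_apply]
    rw [h1]
    refine Submodule.sum_mem _ (fun t _ => Submodule.sum_mem _ (fun u _ => ?_))
    refine Submodule.mem_iSup_of_mem (t, u) ⟨ePr_mem (p := p) hT t _, ?_⟩
    exact ePr_keep h.symm u t (ePr_mem (p := p) hU u v)

end gen

section gb
variable {F : Type} [Field F]

/-- the map `s + s⁻¹` -/
theorem tr_pow [Finite F] {p : ℕ} [CharP F p] {s : V8 F ≃ₗ[F] V8 F}
    (h : s ^ Nat.card F = s ∨ s ^ Nat.card F = s⁻¹) :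
    ((s : V8 F →ₗ[F] V8 F) + ((s⁻¹ : V8 F ≃ₗ[F] V8 F) : V8 F →ₗ[F] V8 F)) ^ Nat.card F =
      (s : V8 F →ₗ[F] V8 F) + ((s⁻¹ : V8 F ≃ₗ[F] V8 F) : V8 F →ₗ[F] V8 F) := by
  have : Fact p.Prime := ⟨CharP.char_is_prime F p⟩
  let φ := LinearEquiv.automorphismGroup.toLinearMapMonoidHom (R := F) (M := V8 F)
  have e : ∀ g : V8 F ≃ₗ[F] V8 F, (g : V8 F →ₗ[F] V8 F) = φ g := fun _ => rfl
  rw [e, e]
  have hc : Commute (φ s) (φ s⁻¹) := by
    have h1 : Commute s s⁻¹ := (Commute.refl s).inv_right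
    exact h1.map φ
  have h2 := pow_card_add (F := F) (p := p) (φ s) (φ s⁻¹) hc
  rw [← map_pow, ← map_pow, inv_pow] at h2
  rcases h with h | h
  · rw [h] at h2; exact h2
  · rw [h, inv_inv] at h2; rw [h2, add_comm]

theorem tr_comm {s1 s2 : V8 F ≃ₗ[F] V8 F} (h : s1 * s2 = s2 * s1) :
    Commute ((s1 : V8 F →ₗ[F] V8 F) + ((s1⁻¹ : V8 F ≃ₗ[F] V8 F) : V8 F →ₗ[F] V8 F))
      ((s2 : V8 F →ₗ[F] V8 F) + ((s2⁻¹ : V8 F ≃ₗ[F] V8 F) : V8 F →ₗ[F] V8 F)) := by
  let φ := LinearEquiv.automorphismGroup.toLinearMapMonoidHom (R := F) (M := V8 F)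
  have e : ∀ g : V8 F ≃ₗ[F] V8 F, (g : V8 F →ₗ[F] V8 F) = φ g := fun _ => rfl
  rw [e, e, e, e]
  have h0 : Commute s1 s2 := h
  exact ((h0.map φ).add_right (h0.inv_right.map φ)).add_left
    ((h0.inv_left.map φ).add_right (h0.inv_left.inv_right.map φ))

theorem polar_inv {s : V8 F ≃ₗ[F] V8 F} (hs : s ∈ E (plusForm 4 F)) (v w : V8 F) :
    polar (plusForm 4 F) (s v) w = polar (plusForm 4 F) v (s⁻¹ w) := by
  have h := polar_map (E_le_O hs) v (s⁻¹ w)
  have h2 : s (s⁻¹ w) = w := s.apply_symm_apply w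
  rw [h2] at h
  exact h

/-- `s + s⁻¹` is self-adjoint -/
theorem polar_tr {s : V8 F ≃ₗ[F] V8 F} (hs : s ∈ E (plusForm 4 F)) (v w : V8 F) :
    polar (plusForm 4 F) (((s : V8 F →ₗ[F] V8 F) + ((s⁻¹ : V8 F ≃ₗ[F] V8 F) : V8 F →ₗ[F] V8 F)) v) w =
      polar (plusForm 4 F) v (((s : V8 F →ₗ[F] V8 F) + ((s⁻¹ : V8 F ≃ₗ[F] V8 F) : V8 F →ₗ[F] V8 F)) w) := by
  rw [LinearMap.add_apply, LinearMap.add_apply, polar_add_left, polar_add_right]
  have h1 := polar_inv hs v w
  have h2 := polar_inv (inv_mem hs) v w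
  rw [inv_inv] at h2
  change polar (plusForm 4 F) (s v) w + polar (plusForm 4 F) (s⁻¹ v) w =
    polar (plusForm 4 F) v (s w) + polar (plusForm 4 F) v (s⁻¹ w)
  rw [h1, h2, add_comm]

theorem polar_eig {s : V8 F ≃ₗ[F] V8 F} (hs : s ∈ E (plusForm 4 F)) {t u : F} (htu : t ≠ u) {v w : V8 F}
    (hv : v ∈ Module.End.eigenspace ((s : V8 F →ₗ[F] V8 F) + ((s⁻¹ : V8 F ≃ₗ[F] V8 F) : V8 F →ₗ[F] V8 F)) t)
    (hw : w ∈ Module.End.eigenspace ((s : V8 F →ₗ[F] V8 F) + ((s⁻¹ : V8 F ≃ₗ[F] V8 F) : V8 F →ₗ[F] V8 F)) u) :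
    polar (plusForm 4 F) v w = 0 := by
  have h := polar_tr hs v w
  rw [Module.End.mem_eigenspace_iff.1 hv, Module.End.mem_eigenspace_iff.1 hw, polar_smul_left, polar_smul_right,
    smul_eq_mul, smul_eq_mul] at h
  have h2 : (t - u) * polar (plusForm 4 F) v w = 0 := by rw [sub_mul, h, sub_self]
  exact (mul_eq_zero.1 h2).resolve_left (sub_ne_zero.2 htu)

variable [Finite F] {p : ℕ} [CharP F p] {s1 s2 : V8 F ≃ₗ[F] V8 F}

theorem q1' (h : GB p s1 s2) : s1 ^ Nat.card F = s1 := by
  have hq : 1 < Nat.card F := Finite.one_lt_card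
  have h1 := h.q1
  calc s1 ^ Nat.card F = s1 ^ (Nat.card F - 1) * s1 := by rw [← pow_succ, Nat.sub_add_cancel hq.le]
    _ = s1 := by rw [h1, one_mul]

theorem q2' (h : GB p s1 s2) : s2 ^ Nat.card F = s2⁻¹ := by
  have h1 := h.q2
  rw [pow_succ] at h1
  exact eq_inv_of_mul_eq_one_left h1

/-- (P1) -/
theorem Vt_internal [DecidableEq (F × F)] (h : GB p s1 s2) : DirectSum.IsInternal (Vt s1 s2) := by
  have : Fact p.Prime := ⟨CharP.char_is_prime F p⟩
  exact pair_internal (p := p) (tr_pow (p := p) (Or.inl (q1' h))) (tr_pow (p := p) (Or.inr (q2' h))) (tr_comm h.comm)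

theorem Vt_perp (h : GB p s1 s2) {t u : F × F} (htu : t ≠ u) {v w : V8 F} (hv : v ∈ Vt s1 s2 t) (hw : w ∈ Vt s1 s2 u) :
    polar (plusForm 4 F) v w = 0 := by
  by_cases h1 : t.1 = u.1
  · have h2 : t.2 ≠ u.2 := fun h2 => htu (Prod.ext h1 h2)
    exact polar_eig h.m2 h2 hv.2 hw.2
  · exact polar_eig h.m1 h1 hv.1 hw.1

theorem Vt_iSup (h : GB p s1 s2) : (⨆ t, Vt s1 s2 t) = ⊤ := by
  classical
  exact (Vt_internal h).submodule_iSup_eq_top

theorem Vt_nd (h : GB p s1 s2) (t : F × F) {v : V8 F} (hv : v ∈ Vt s1 s2 t)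
    (hp : ∀ w ∈ Vt s1 s2 t, polar (plusForm 4 F) v w = 0) : v = 0 := by
  refine polar_plusForm_nondeg 4 v (fun w => ?_)
  have hw : w ∈ ⨆ t, Vt s1 s2 t := by rw [Vt_iSup h]; exact Submodule.mem_top
  refine Submodule.iSup_induction (Vt s1 s2) (motive := fun w => polar (plusForm 4 F) v w = 0) hw ?_ ?_ ?_
  · intro u w hw
    by_cases hu : t = u
    · subst hu; exact hp w hw
    · exact Vt_perp h hu hv hw
  · exact polar_zero_right _ _
  · intro x y hx hy
    change polar (plusForm 4 F) v (x + y) = 0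
    rw [polar_add_right, hx, hy, add_zero]

omit [Finite F] in
theorem tr_inv {s c : V8 F ≃ₗ[F] V8 F} (h : c * s = s * c) (v : V8 F) :
    ((s : V8 F →ₗ[F] V8 F) + ((s⁻¹ : V8 F ≃ₗ[F] V8 F) : V8 F →ₗ[F] V8 F)) (c v) =
      c (((s : V8 F →ₗ[F] V8 F) + ((s⁻¹ : V8 F ≃ₗ[F] V8 F) : V8 F →ₗ[F] V8 F)) v) := by
  have h1 : s (c v) = c (s v) := (LinearEquiv.congr_fun h v).symm
  have h2 : s⁻¹ (c v) = c (s⁻¹ v) := by
    have h3 : c * s⁻¹ = s⁻¹ * c := (show Commute c s from h).inv_right.eq
    exact (LinearEquiv.congr_fun h3 v).symm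
  rw [LinearMap.add_apply, LinearMap.add_apply, map_add]
  change s (c v) + s⁻¹ (c v) = c (s v) + c (s⁻¹ v)
  rw [h1, h2]

omit [Finite F] in
theorem Vt_inv {c : V8 F ≃ₗ[F] V8 F} (h1 : c * s1 = s1 * c) (h2 : c * s2 = s2 * c) (t : F × F) {v : V8 F}
    (hv : v ∈ Vt s1 s2 t) : c v ∈ Vt s1 s2 t := by
  refine ⟨Module.End.mem_eigenspace_iff.2 ?_, Module.End.mem_eigenspace_iff.2 ?_⟩
  · rw [tr_inv h1, Module.End.mem_eigenspace_iff.1 hv.1, map_smul]
  · rw [tr_inv h2, Module.End.mem_eigenspace_iff.1 hv.2, map_smul]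

end gb

end Cfsg.Agent.H566.RC
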